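import Cfsg.Agent.H604.OZ.Basic
import Cfsg.Agent.S0961

/-!
# One vanishing class: the good primes (T4, helper733, for the sporadic rows of S4842)

`h : One χ x` (helper732): the irreducible character `χ` vanishes exactly on the class of `x`;
`c = cent x = |C(x)|`, `d = charDegree χ`.  Let `r` be a prime, `r ^ n` the `r`-part of `|G|`
and `r ^ n < c`.  Then

* `not_dvd_orderOf` : `r` does not divide `|x|`;
* `normSq_one`      : `|χ g| ^ 2 = 1` for all `g` of order divisible by `r`;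
* `not_dvd_cent`    : `r` does not divide `c`;
* `pow_dvd`         : `r ^ n ∣ d ^ 2 - 1`;
* `cent_le`         : (contrapositive) if `r ^ n` does not divide `d ^ 2 - 1` then `c ≤ r ^ n`.
-/

set_option autoImplicit false

open Cfsg Cfsg.Agent.Characters Cfsg.Agent.H686.CharKit Cfsg.Agent.H732.VZ
open Cfsg.Agent.H604.OZ (cent ne_one one_lt_deg orderOf_eq_of_conj)
open scoped ComplexConjugate

namespace Cfsg.Agent.H733.OZ

universe u

variable {G : Type u} [Group G]

/-- Equality in the inequality of the means: all conjugates have absolute value one. -/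
theorem normSq_eq_one [Finite G] (χ : IrrCharacter G) {g : G} (hg : (χ : G → ℂ) g ≠ 0)
    [NeZero (Nat.card G)]
    (hle : ∑ m : (ZMod (Nat.card G))ˣ,
      Complex.normSq ((χ : G → ℂ) (g ^ (m : ZMod (Nat.card G)).val))
        ≤ (Fintype.card (ZMod (Nat.card G))ˣ : ℝ)) :
    Complex.normSq ((χ : G → ℂ) g) = 1 := by
  classical
  have hχ := Core.isIrr_isCharacter χ.2
  set P : ℂ := ∏ m : (ZMod (Nat.card G))ˣ, (χ : G → ℂ) (g ^ (m : ZMod (Nat.card G)).val) with hP
  have hne : ∀ m : (ZMod (Nat.card G))ˣ, (χ : G → ℂ) (g ^ (m : ZMod (Nat.card G)).val) ≠ 0 := by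
    intro m
    obtain ⟨σ, hσ⟩ := GaloisBasic.exists_ringEquiv_of_coprime (G := G)
      (m := (m : ZMod (Nat.card G)).val) (ZMod.val_coe_unit_coprime m)
    rw [← hσ _ hχ g]
    intro h
    exact hg (by simpa using h)
  have hP0 : P ≠ 0 := Finset.prod_ne_zero_iff.mpr fun m _ => hne m
  have hPint : IsIntegral ℤ P :=
    IsIntegral.prod _ fun m _ => GaloisBasic.isIntegral_apply hχ _
  have hfix : ∀ σ : ℂ ≃+* ℂ, σ P = P := by
    intro σ
    obtain ⟨k, hk, hσ⟩ := GaloisBasic.exists_pow_of_ringEquiv (G := G) σ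
    rw [hP, map_prod]
    conv_rhs => rw [← Equiv.prod_comp (Equiv.mulRight (ZMod.unitOfCoprime k hk))]
    refine Finset.prod_congr rfl fun m _ => ?_
    rw [hσ _ hχ]
    rw [Equiv.coe_mulRight, ← H598.NoZero.pow_unit_mul g pow_card_eq_one' m k hk, ← pow_mul,
      ← pow_mul, mul_comm]
  obtain ⟨q, hq⟩ := GaloisBasic.exists_rat_of_forall_ringEquiv hPint.tower_top hfix
  obtain ⟨k, hk⟩ := GaloisBasic.exists_int_of_isIntegral hPint ⟨q, hq⟩
  have hk0 : k ≠ 0 := by
    rintro rfl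
    exact hP0 (by rw [hk]; simp)
  have hPnorm : 1 ≤ Complex.normSq P := by
    rw [hk, Complex.normSq_intCast]
    have : (1 : ℤ) ≤ k * k := by
      rcases lt_or_gt_of_ne hk0 with h | h <;> nlinarith
    exact_mod_cast this
  have hpos : ∀ m : (ZMod (Nat.card G))ˣ,
      0 < Complex.normSq ((χ : G → ℂ) (g ^ (m : ZMod (Nat.card G)).val)) := fun m =>
    Complex.normSq_pos.2 (hne m)
  have h2 : 0 ≤ ∑ m : (ZMod (Nat.card G))ˣ,
      Real.log (Complex.normSq ((χ : G → ℂ) (g ^ (m : ZMod (Nat.card G)).val))) := by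
    rw [← Real.log_prod (fun m _ => (hpos m).ne'), ← map_prod]
    exact Real.log_nonneg hPnorm
  have hnn : ∀ m ∈ (Finset.univ : Finset (ZMod (Nat.card G))ˣ), (0 : ℝ)
      ≤ Complex.normSq ((χ : G → ℂ) (g ^ (m : ZMod (Nat.card G)).val)) - 1
        - Real.log (Complex.normSq ((χ : G → ℂ) (g ^ (m : ZMod (Nat.card G)).val))) :=
    fun m _ => by
      have := Real.log_le_sub_one_of_pos (hpos m)
      linarith
  have hsum : ∑ m : (ZMod (Nat.card G))ˣ,
      (Complex.normSq ((χ : G → ℂ) (g ^ (m : ZMod (Nat.card G)).val)) - 1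
        - Real.log (Complex.normSq ((χ : G → ℂ) (g ^ (m : ZMod (Nat.card G)).val)))) ≤ 0 := by
    rw [Finset.sum_sub_distrib, Finset.sum_sub_distrib, Finset.sum_const, nsmul_eq_mul, mul_one,
      Finset.card_univ]
    linarith
  have hzero := (Finset.sum_eq_zero_iff_of_nonneg hnn).1
    (le_antisymm hsum (Finset.sum_nonneg hnn)) 1 (Finset.mem_univ _)
  have hone : g ^ ((1 : (ZMod (Nat.card G))ˣ) : ZMod (Nat.card G)).val = g := by
    rcases Nat.lt_or_ge 1 (Nat.card G) with h3 | h3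
    · have : Fact (1 < Nat.card G) := ⟨h3⟩
      rw [Units.val_one, ZMod.val_one, pow_one]
    · have : Subsingleton G := Finite.card_le_one_iff_subsingleton.1 h3
      exact Subsingleton.elim _ _
  rw [hone] at hzero
  by_contra hne1
  have hpos1 : 0 < Complex.normSq ((χ : G → ℂ) g) := Complex.normSq_pos.2 hg
  have := Real.log_lt_sub_one_of_pos hpos1 hne1
  linarith

section Fin

variable [Fintype G] [DecidableEq G]

/-- An irreducible character without zeros on a Galois-stable set over which the mean of the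
squared absolute values is at most one: all absolute values are one. -/
theorem normSq_eq_one_of_sum (χ : IrrCharacter G) {Y : Finset G} (hY : H695.OneZero.Gal Y)
    (h0 : ∀ g ∈ Y, (χ : G → ℂ) g ≠ 0)
    (hs : ∑ g ∈ Y, Complex.normSq ((χ : G → ℂ) g) ≤ Y.card) {g : G} (hg : g ∈ Y) :
    Complex.normSq ((χ : G → ℂ) g) = 1 := by
  have : NeZero (Nat.card G) := ⟨Nat.card_pos.ne'⟩
  refine normSq_eq_one χ (h0 g hg) ?_
  by_contra hlt
  rw [not_le] at hlt
  have h1 : ∑ g ∈ Y, (Fintype.card (ZMod (Nat.card G))ˣ : ℝ)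
      < ∑ g ∈ Y, ∑ m : (ZMod (Nat.card G))ˣ,
        Complex.normSq ((χ : G → ℂ) (g ^ (m : ZMod (Nat.card G)).val)) :=
    Finset.sum_lt_sum (fun g hg => H598.NoZero.le_sum_norm_sq χ (h0 g hg)) ⟨g, hg, hlt⟩
  rw [Finset.sum_const, nsmul_eq_mul, Finset.sum_comm,
    Finset.sum_congr rfl fun (m : (ZMod (Nat.card G))ˣ) _ =>
      hY.sum_pow (ZMod.val_coe_unit_coprime m) fun g => Complex.normSq ((χ : G → ℂ) g),
    Finset.sum_const, nsmul_eq_mul, Finset.card_univ] at h1
  have hpos : (0 : ℝ) < Fintype.card (ZMod (Nat.card G))ˣ := by exact_mod_cast Fintype.card_pos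
  nlinarith

/-- The elements of order prime to `r`. -/
noncomputable def reg (G : Type u) [Group G] [Fintype G] (r : ℕ) : Finset G :=
  Finset.univ.filter fun g : G => ¬ r ∣ orderOf g

/-- The elements of order divisible by `r`. -/
noncomputable def sing (G : Type u) [Group G] [Fintype G] (r : ℕ) : Finset G :=
  Finset.univ.filter fun g : G => r ∣ orderOf g

omit [DecidableEq G] in
theorem mem_reg {r : ℕ} {g : G} : g ∈ reg G r ↔ ¬ r ∣ orderOf g := by simp [reg]

omit [DecidableEq G] in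
theorem mem_sing {r : ℕ} {g : G} : g ∈ sing G r ↔ r ∣ orderOf g := by simp [sing]

omit [Fintype G] [DecidableEq G] in
theorem orderOf_pow_of_coprime {k : ℕ} (hk : k.Coprime (Nat.card G)) (g : G) :
    orderOf (g ^ k) = orderOf g :=
  (Nat.Coprime.orderOf_pow (Nat.Coprime.coprime_dvd_left (orderOf_dvd_natCard g) hk.symm))

omit [DecidableEq G] in
theorem gal_reg (r : ℕ) : H695.OneZero.Gal (reg G r) := fun g hg k hk => by
  rw [mem_reg] at hg ⊢
  rwa [orderOf_pow_of_coprime hk]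

omit [DecidableEq G] in
theorem gal_sing (r : ℕ) : H695.OneZero.Gal (sing G r) := fun g hg k hk => by
  rw [mem_sing] at hg ⊢
  rwa [orderOf_pow_of_coprime hk]

omit [DecidableEq G] in
/-- `∑ |χ g| ^ 2` over the elements of order prime to `r` is divisible by the `r'`-part of `|G|`. -/
theorem sum_reg (χ : IrrCharacter G) {r n : ℕ} (hr : r.Prime) (h1 : r ^ n ∣ Nat.card G)
    (h2 : ¬ r ^ (n + 1) ∣ Nat.card G) :
    ∃ k : ℤ, (r ^ n : ℝ) * ∑ g ∈ reg G r, Complex.normSq ((χ : G → ℂ) g) = Nat.card G * k := by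
  classical
  have : Fact r.Prime := ⟨hr⟩
  have hn : (Nat.card G).factorization r = n := by
    have hN : Nat.card G ≠ 0 := Nat.card_pos.ne'
    have h3 := (hr.pow_dvd_iff_le_factorization hN).1 h1
    have h4 := (hr.pow_dvd_iff_le_factorization hN).not.1 h2
    omega
  have h3 := S0961.result r χ
  rw [hn] at h3
  obtain ⟨a, b, ha, hb, hab⟩ := Core.isGeneralizedCharacter_def.1 h3
  obtain ⟨m1, hm1⟩ := Core.classInner_isNat ha (Core.isIrr_isCharacter χ.2)
  obtain ⟨m2, hm2⟩ := Core.classInner_isNat hb (Core.isIrr_isCharacter χ.2)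
  have h4 : classInner (fun x : G => if r ∣ orderOf x then 0
      else ((r ^ n : ℕ) : ℂ) * (χ : G → ℂ) x) (χ : G → ℂ) = (m1 : ℂ) - m2 := by
    rw [hab, Core.classInner_sub_left, hm1, hm2]
  unfold classInner at h4
  have hG : (Nat.card G : ℂ) ≠ 0 := by exact_mod_cast Nat.card_pos.ne'
  have h5 : ∑ g : G, (if r ∣ orderOf g then 0 else ((r ^ n : ℕ) : ℂ) * (χ : G → ℂ) g)
      * (starRingEnd ℂ) ((χ : G → ℂ) g) = (Nat.card G : ℂ) * ((m1 : ℂ) - m2) := by
    rw [← h4]
    field_simp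
  refine ⟨(m1 : ℤ) - m2, ?_⟩
  have h6 : (((r ^ n : ℝ) * ∑ g ∈ reg G r, Complex.normSq ((χ : G → ℂ) g) : ℝ) : ℂ)
      = (((Nat.card G * (((m1 : ℤ) - m2 : ℤ) : ℝ)) : ℝ) : ℂ) := by
    push_cast
    rw [← h5, reg, Finset.sum_filter, Finset.mul_sum]
    refine Finset.sum_congr rfl fun g _ => ?_
    by_cases hg : r ∣ orderOf g
    · simp [hg]
    · rw [if_pos hg, if_neg hg, mul_assoc, Complex.mul_conj]
      push_cast
      ring
  exact_mod_cast h6

omit [DecidableEq G] in
/-- The excess over the elements of order prime to `r` is divisible by the `r'`-part of `|G|`. -/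
theorem sum_reg_sub (χ : IrrCharacter G) {r n : ℕ} (hr : r.Prime) (h1 : r ^ n ∣ Nat.card G)
    (h2 : ¬ r ^ (n + 1) ∣ Nat.card G) :
    ∃ k : ℤ, (r ^ n : ℝ) * ((∑ g ∈ reg G r, Complex.normSq ((χ : G → ℂ) g)) - (reg G r).card)
      = Nat.card G * k := by
  obtain ⟨k1, hk1⟩ := sum_reg χ hr h1 h2
  obtain ⟨k2, hk2⟩ := sum_reg (⟨1, Core.isIrr_one⟩ : IrrCharacter G) hr h1 h2
  refine ⟨k1 - k2, ?_⟩
  have h3 : ∑ g ∈ reg G r, Complex.normSq (((⟨1, Core.isIrr_one⟩ : IrrCharacter G) : G → ℂ) g)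
      = (reg G r).card := by
    rw [Finset.card_eq_sum_ones, Nat.cast_sum]
    exact Finset.sum_congr rfl fun g _ => by simp
  rw [h3] at hk2
  push_cast
  rw [mul_sub, hk1, hk2]
  ring

end Fin

variable [Finite G] {χ : IrrCharacter G} {x : G}

/-- The common part of `not_dvd_orderOf` and `normSq_one`. -/
theorem good (h : One χ x) {r n : ℕ} (hr : r.Prime) (h1 : r ^ n ∣ Nat.card G)
    (h2 : ¬ r ^ (n + 1) ∣ Nat.card G) (hc : r ^ n < cent x) :
    ¬ r ∣ orderOf x ∧ ∀ g : G, r ∣ orderOf g → Complex.normSq ((χ : G → ℂ) g) = 1 := by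
  classical
  have := Fintype.ofFinite G
  obtain ⟨k, hk⟩ := sum_reg_sub χ hr h1 h2
  set E : ℝ := (∑ g ∈ reg G r, Complex.normSq ((χ : G → ℂ) g)) - (reg G r).card with hE
  set Z : Finset G := Finset.univ.filter fun g : G => (χ : G → ℂ) g = 0 with hZ
  have hZc : Z.card * cent x = Nat.card G := card_zeros h
  have hZpos : 0 < Z.card := Finset.card_pos.2 ⟨x, by rw [hZ, Finset.mem_filter]; exact ⟨Finset.mem_univ _, h.zero⟩⟩
  have hNpos : (0 : ℝ) < Nat.card G := by exact_mod_cast Nat.card_pos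
  have hrpos : (0 : ℝ) < (r : ℝ) ^ n := by
    have := hr.pos
    positivity
  -- `r ^ n * |Z| < N`
  have hlt : (r : ℝ) ^ n * Z.card < Nat.card G := by
    have h3 : Z.card * r ^ n < Z.card * cent x := Nat.mul_lt_mul_of_pos_left hc hZpos
    rw [hZc] at h3
    have h4 : r ^ n * Z.card < Nat.card G := by rwa [mul_comm]
    exact_mod_cast h4
  have hcomp : (reg G r)ᶜ = sing G r := by
    ext g
    rw [Finset.mem_compl, mem_reg, mem_sing, not_not]
  have htot := H695.OneZero.sum_normSq χ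
  rw [← Finset.sum_add_sum_compl (reg G r), hcomp] at htot
  have hcard : ((reg G r).card : ℝ) + (sing G r).card = Fintype.card G := by
    rw [← Nat.cast_add, ← hcomp, Finset.card_add_card_compl]
  by_cases hx : r ∣ orderOf x
  · -- the zeros are singular
    exfalso
    have hreg0 : ∀ g ∈ reg G r, (χ : G → ℂ) g ≠ 0 := by
      intro g hg h0
      rw [mem_reg, ← orderOf_eq_of_conj (h.uniq g h0)] at hg
      exact hg hx
    have hup := H695.OneZero.sum_le χ (gal_reg r) hreg0
    -- strictly positive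
    have h1mem : (1 : G) ∈ reg G r := by
      rw [mem_reg, orderOf_one]
      exact fun h => hr.one_lt.ne' (Nat.dvd_one.1 h)
    have hgal1 : H695.OneZero.Gal ((reg G r).erase 1) := by
      intro g hg k hk
      rw [Finset.mem_erase] at hg ⊢
      refine ⟨fun h1 => hg.1 ?_, gal_reg r g hg.2 k hk⟩
      rw [← orderOf_eq_one_iff, ← orderOf_pow_of_coprime hk, h1, orderOf_one]
    have hlow := H695.OneZero.card_le χ hgal1 fun g hg => hreg0 g (Finset.mem_of_mem_erase hg)
    have hsplit := Finset.add_sum_erase (reg G r)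
      (fun g => Complex.normSq ((χ : G → ℂ) g)) h1mem
    have hce : (((reg G r).erase 1).card : ℝ) + 1 = (reg G r).card := by
      have := Finset.card_erase_add_one h1mem
      exact_mod_cast this
    have hd := one_lt_deg h
    have hd2 : (1 : ℝ) < Complex.normSq ((χ : G → ℂ) 1) := by
      rw [← charDegree_irr χ, Complex.normSq_natCast]
      have : (1 : ℝ) < charDegree (χ : G → ℂ) := by exact_mod_cast hd
      nlinarith
    have hEpos : 0 < E := by
      rw [hE, ← hsplit]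
      linarith
    have hEle : E ≤ Z.card := by
      rw [hE]
      have : (Z.card : ℝ) = ((Finset.univ.filter fun g : G => (χ : G → ℂ) g = 0).card : ℝ) := rfl
      linarith
    have hk1 : (0 : ℝ) < Nat.card G * (k : ℝ) := by rw [← hk]; positivity
    have hk2 : Nat.card G * (k : ℝ) < Nat.card G := by
      rw [← hk]
      exact lt_of_le_of_lt (mul_le_mul_of_nonneg_left hEle hrpos.le) hlt
    have hk3 : (0 : ℝ) < k := by
      by_contra hcon
      rw [not_lt] at hcon
      nlinarith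
    have hk4 : (k : ℝ) < 1 := by
      by_contra hcon
      rw [not_lt] at hcon
      nlinarith
    have hk5 : 0 < k := by exact_mod_cast hk3
    have hk6 : k < 1 := by exact_mod_cast hk4
    omega
  · refine ⟨hx, ?_⟩
    have hsing0 : ∀ g ∈ sing G r, (χ : G → ℂ) g ≠ 0 := by
      intro g hg h0
      rw [mem_sing, ← orderOf_eq_of_conj (h.uniq g h0)] at hg
      exact hx hg
    have hup := H695.OneZero.sum_le χ (gal_sing r) hsing0
    have hlow := H695.OneZero.card_le χ (gal_sing r) hsing0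
    have hEle : E ≤ 0 := by
      rw [hE]
      linarith
    have hEge : -(Z.card : ℝ) ≤ E := by
      rw [hE]
      have : (Z.card : ℝ) = ((Finset.univ.filter fun g : G => (χ : G → ℂ) g = 0).card : ℝ) := rfl
      linarith
    have hk1 : Nat.card G * (k : ℝ) ≤ 0 := by
      rw [← hk]
      exact mul_nonpos_of_nonneg_of_nonpos hrpos.le hEle
    have hk2 : -(Nat.card G : ℝ) < Nat.card G * (k : ℝ) := by
      rw [← hk]
      have : (r : ℝ) ^ n * (-(Z.card : ℝ)) ≤ (r : ℝ) ^ n * E :=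
        mul_le_mul_of_nonneg_left hEge hrpos.le
      linarith
    have hk3 : (k : ℝ) ≤ 0 := by
      by_contra hcon
      rw [not_le] at hcon
      nlinarith
    have hk4 : (-1 : ℝ) < k := by
      by_contra hcon
      rw [not_lt] at hcon
      nlinarith
    have hk5 : k ≤ 0 := by exact_mod_cast hk3
    have hk6 : -1 < k := by exact_mod_cast hk4
    have hk7 : k = 0 := by omega
    have hE0 : E = 0 := by
      rw [hk7, Int.cast_zero, mul_zero] at hk
      exact (mul_eq_zero.1 hk).resolve_left hrpos.ne'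
    intro g hg
    refine normSq_eq_one_of_sum χ (gal_sing r) hsing0 ?_ (mem_sing.2 hg)
    rw [hE] at hE0
    linarith

/-- **T4.** -/
theorem not_dvd_orderOf (h : One χ x) {r n : ℕ} (hr : r.Prime) (h1 : r ^ n ∣ Nat.card G)
    (h2 : ¬ r ^ (n + 1) ∣ Nat.card G) (hc : r ^ n < cent x) : ¬ r ∣ orderOf x :=
  (good h hr h1 h2 hc).1

/-- **T4.** -/
theorem normSq_one (h : One χ x) {r n : ℕ} (hr : r.Prime) (h1 : r ^ n ∣ Nat.card G)
    (h2 : ¬ r ^ (n + 1) ∣ Nat.card G) (hc : r ^ n < cent x) {g : G} (hg : r ∣ orderOf g) :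
    Complex.normSq ((χ : G → ℂ) g) = 1 :=
  (good h hr h1 h2 hc).2 g hg

/-- **T4.** A rational integer value at an element of order divisible by `r` is `± 1`. -/
theorem eq_one_or (h : One χ x) {r n : ℕ} (hr : r.Prime) (h1 : r ^ n ∣ Nat.card G)
    (h2 : ¬ r ^ (n + 1) ∣ Nat.card G) (hc : r ^ n < cent x) {g : G} (hg : r ∣ orderOf g) {m : ℤ}
    (hm : (χ : G → ℂ) g = m) : m = 1 ∨ m = -1 := by
  have h3 := normSq_one h hr h1 h2 hc hg
  rw [hm, Complex.normSq_intCast] at h3
  have h4 : m * m = 1 := by exact_mod_cast h3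
  exact Int.eq_one_or_neg_one_of_mul_eq_one h4

/-- **T4.** -/
theorem not_dvd_cent (h : One χ x) {r n : ℕ} (hr : r.Prime) (h1 : r ^ n ∣ Nat.card G)
    (h2 : ¬ r ^ (n + 1) ∣ Nat.card G) (hc : r ^ n < cent x) : ¬ r ∣ cent x := by
  intro hd
  have hx := not_dvd_orderOf h hr h1 h2 hc
  have : Fact r.Prime := ⟨hr⟩
  obtain ⟨z, hz⟩ := exists_prime_orderOf_dvd_card' (G := Subgroup.centralizer ({x} : Set G)) r hd
  have hz' : orderOf (z : G) = r := by rw [Subgroup.orderOf_coe, hz]
  have hzx : Commute (z : G) x := Subgroup.mem_centralizer_singleton_iff.1 z.2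
  have hcop : (orderOf (z : G)).Coprime (orderOf x) := by
    rw [hz']
    exact (Nat.Prime.coprime_iff_not_dvd hr).2 hx
  have ho : r ∣ orderOf ((z : G) * x) := by
    rw [hzx.orderOf_mul_eq_mul_orderOf_of_coprime hcop, hz']
    exact Dvd.intro _ rfl
  obtain ⟨M, hM', hrM⟩ := CharactersDeep.BrauerLocal.exists_maximal r hr
  have hM : M.IsPrime := hM'.isPrime
  have h3 := av_mul_sub_mem hr hM hrM χ hz' hzx hx
  have h4 : av χ x = 0 := Subtype.ext h.zero
  rw [h4, sub_zero] at h3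
  -- the complex conjugate of the value
  have hinv : av χ ((z : G) * x)⁻¹ * av χ ((z : G) * x) = 1 := by
    apply Subtype.ext
    change (χ : G → ℂ) ((z : G) * x)⁻¹ * (χ : G → ℂ) ((z : G) * x) = 1
    rw [Core.isCharacter_apply_inv (Core.isIrr_isCharacter χ.2), mul_comm, Complex.mul_conj,
      normSq_one h hr h1 h2 hc ho, Complex.ofReal_one]
  exact hM.ne_top ((Ideal.eq_top_iff_one M).2 (by
    rw [← hinv]
    exact M.mul_mem_left _ h3))

/-- **T4.** -/
theorem pow_dvd (h : One χ x) {r n : ℕ} (hr : r.Prime) (h1 : r ^ n ∣ Nat.card G)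
    (h2 : ¬ r ^ (n + 1) ∣ Nat.card G) (hc : r ^ n < cent x) :
    r ^ n ∣ charDegree (χ : G → ℂ) ^ 2 - 1 := by
  classical
  have : Fact r.Prime := ⟨hr⟩
  obtain ⟨P⟩ : Nonempty (Sylow r G) := inferInstance
  have hP : r ^ n ∣ Nat.card (P : Subgroup G) := P.pow_dvd_card_of_pow_dvd_card h1
  have hP' : Nat.card (P : Subgroup G) ∣ r ^ n := by
    obtain ⟨m, hm⟩ := IsPGroup.iff_card.1 P.2
    rw [hm]
    refine pow_dvd_pow r ?_
    by_contra hlt
    exact h2 ((pow_dvd_pow r (by omega : n + 1 ≤ m)).trans (hm ▸ Subgroup.card_subgroup_dvd_card _))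
  have hPc : Nat.card (P : Subgroup G) = r ^ n := Nat.dvd_antisymm hP' hP
  have := Fintype.ofFinite (P : Subgroup G)
  have hres : IsCharacter (P : Subgroup G) (fun y : (P : Subgroup G) => (χ : G → ℂ) y) :=
    Core.isCharacter_comp (P : Subgroup G).subtype (Core.isIrr_isCharacter χ.2)
  obtain ⟨m, hm⟩ := Core.classInner_isNat hres hres
  unfold classInner at hm
  have hPC : (Nat.card (P : Subgroup G) : ℂ) ≠ 0 := by exact_mod_cast Nat.card_pos.ne'
  have h3 : ∑ y : (P : Subgroup G), (χ : G → ℂ) y * (starRingEnd ℂ) ((χ : G → ℂ) y)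
      = (Nat.card (P : Subgroup G) : ℂ) * m := by
    rw [← hm]
    field_simp
  have h4 : ∀ y : (P : Subgroup G), y ≠ 1 → (χ : G → ℂ) y * (starRingEnd ℂ) ((χ : G → ℂ) y) = 1 := by
    intro y hy
    rw [Complex.mul_conj, normSq_one h hr h1 h2 hc, Complex.ofReal_one]
    obtain ⟨k, hk⟩ := IsPGroup.iff_orderOf.1 P.2 y
    have hk0 : k ≠ 0 := by
      rintro rfl
      rw [pow_zero, orderOf_eq_one_iff] at hk
      exact hy hk
    rw [Subgroup.orderOf_coe, hk]
    exact dvd_pow_self r hk0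
  rw [← Finset.add_sum_erase _ _ (Finset.mem_univ (1 : (P : Subgroup G))),
    Finset.sum_congr rfl fun y hy => h4 y (Finset.ne_of_mem_erase hy), Finset.sum_const,
    nsmul_eq_mul, mul_one, Finset.card_erase_of_mem (Finset.mem_univ _), Finset.card_univ,
    ← Nat.card_eq_fintype_card, hPc, OneMemClass.coe_one, ← charDegree_irr χ, Complex.conj_natCast] at h3
  have hd := one_lt_deg h
  have hrn : 1 ≤ r ^ n := Nat.one_le_pow _ _ hr.pos
  have h5 : charDegree (χ : G → ℂ) * charDegree (χ : G → ℂ) + (r ^ n - 1) = r ^ n * m := by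
    exact_mod_cast h3
  have h6 : 1 ≤ charDegree (χ : G → ℂ) ^ 2 := Nat.one_le_pow _ _ (by omega)
  have h7 : charDegree (χ : G → ℂ) ^ 2 - 1 + r ^ n = r ^ n * m := by
    rw [← h5, sq] at *
    omega
  exact (Nat.dvd_add_left (dvd_refl _)).1 (h7 ▸ Dvd.intro _ rfl)

/-- **T4**, contrapositive form. -/
theorem cent_le (h : One χ x) {r n : ℕ} (hr : r.Prime) (h1 : r ^ n ∣ Nat.card G)
    (h2 : ¬ r ^ (n + 1) ∣ Nat.card G) (hd : ¬ r ^ n ∣ charDegree (χ : G → ℂ) ^ 2 - 1) :
    cent x ≤ r ^ n := by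
  by_contra hlt
  exact hd (pow_dvd h hr h1 h2 (by omega))

/-- **T4**: an `r`-element `x` or a degree divisible by `r`: `c ≤ |G|_r`. -/
theorem cent_le_of_dvd (h : One χ x) {r n : ℕ} (hr : r.Prime) (hn : n ≠ 0)
    (h1 : r ^ n ∣ Nat.card G) (h2 : ¬ r ^ (n + 1) ∣ Nat.card G)
    (hd : r ∣ charDegree (χ : G → ℂ)) : cent x ≤ r ^ n := by
  refine cent_le h hr h1 h2 fun h3 => ?_
  have h4 : r ∣ charDegree (χ : G → ℂ) ^ 2 - 1 := (dvd_pow_self r hn).trans h3
  have h5 : r ∣ charDegree (χ : G → ℂ) ^ 2 := hd.trans (dvd_pow_self _ two_ne_zero)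
  have hd1 := one_lt_deg h
  have h6 : 1 ≤ charDegree (χ : G → ℂ) ^ 2 := Nat.one_le_pow _ _ (by omega)
  have h7 := Nat.dvd_sub h5 h4
  rw [Nat.sub_sub_self h6] at h7
  exact hr.one_lt.ne' (Nat.dvd_one.1 h7)

end Cfsg.Agent.H733.OZ
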