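import Cfsg.Agent.H733.OZ.MAbs
import Cfsg.Agent.H733.OZ.Six
import Cfsg.Agent.H715.Mon.Norm
import Cfsg.Agent.H436.MonLoc
import Cfsg.Agent.H568.SC.Mon
import Cfsg.Agent.H58.Mon.Seventy
import Cfsg.Agent.H626.LD.TwentyNine

/-!
# The row of the Monster of S4842, from the list of the simple groups and S3331 (helper733)

`facts` : the orders of the centralizers of the elements of orders 31, 47, 59, 71 and of a transposition;
`row_m_of` : the row.
-/

set_option autoImplicit false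

namespace Cfsg.Agent.H733.OZ.Mon

open Cfsg Cfsg.Agent.MonsterX
open Subgroup (centralizer zpowers mem_centralizer_singleton_iff)

universe u

variable {S : Type u} [Group S]

/-- the classes of the elements of order prime to 31 commuting with an element of order 31 -/
theorem cls31 (h3 : Cfsg.Agent.H715.Mon.Grp.SThree.{0}) (h : Spor.IsoM S) {z : S} (hz : orderOf z = 31)
    (y y' : S) (hy : z * y = y * z) (hy' : z * y' = y' * z) (hyr : ¬ 31 ∣ orderOf y)
    (hyy : orderOf y = orderOf y') : ∃ k : S, z * k = k * z ∧ k * y * k⁻¹ = y' := by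
  obtain ⟨f⟩ := h
  obtain ⟨g⟩ := Cfsg.Agent.MonsterP.Equiv.equiv
  set e : S ≃* ↥InstData.M.G := f.trans g with he
  have hfin : Finite ↥InstData.M.G := Cfsg.Agent.H444.FprM.finite
  obtain ⟨h6, hne⟩ := Cfsg.Agent.H715.Mon.Norm.ne31 h3 (y := e z) (by rw [MulEquiv.orderOf_eq, hz])
  refine classes_congr e (r := 31) ?_ y y' hy hy' hyr hyy
  refine classes_of (by norm_num) (by rw [MulEquiv.orderOf_eq, hz])
    (QuotientGroup.mk' (Cfsg.Agent.LThreeMB.Zx (e z))) (QuotientGroup.mk'_surjective _) (fun k hk => ?_)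
    fun a b hab => six_conj h6 hne hab
  rw [QuotientGroup.mk'_apply, QuotientGroup.eq_one_iff] at hk
  obtain ⟨i, hi⟩ := hk
  exact ⟨i, congrArg Subtype.val hi⟩

/-- **The facts on the Monster.** -/
theorem facts (hK : Cfsg.Agent.H995.CopEngine.AllKnown.{0}) (h3 : Cfsg.Agent.H715.Mon.Grp.SThree.{0})
    (h : Spor.IsoM S) : Facts S := by
  have hfin : Finite S := Cfsg.Agent.H715.Mon.Norm.finM h
  have hcard : Nat.card S = NM := Cfsg.Agent.H715.Mon.Norm.cardM h
  have key : ∀ {r n : ℕ}, r.Prime → r ∣ NM →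
      (∀ y : ↥InstData.M.G, orderOf y = r → Nat.card (centralizer ({y} : Set ↥InstData.M.G)) = n) →
      ∃ z : S, orderOf z = r ∧ Nat.card (centralizer ({z} : Set S)) = n := by
    intro r n hr hd hm
    have : Fact r.Prime := ⟨hr⟩
    obtain ⟨z, hz⟩ := exists_prime_orderOf_dvd_card' (G := S) r (by rw [hcard]; exact hd)
    exact ⟨z, hz, Cfsg.Agent.H715.Mon.Exact.transport h hm hz⟩
  refine ⟨hcard, ?_, ?_, ?_, ?_, ?_, ?_⟩
  · have : Fact (Nat.Prime 31) := ⟨by norm_num⟩
    obtain ⟨z, hz⟩ := exists_prime_orderOf_dvd_card' (G := S) 31 (by rw [hcard]; norm_num [NM])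
    exact ⟨z, hz, (Cfsg.Agent.H715.Mon.Exact.M.cent31 h3 h hz).trans (by norm_num),
      fun y y' hy hy' hyr hyy => cls31 h3 h hz y y' hy hy' hyr hyy⟩
  · exact key (by norm_num) (by norm_num [NM]) fun y hy =>
      (Cfsg.Agent.H436.MonLoc.card47 hK hy).trans (by norm_num)
  · exact key (by norm_num) (by norm_num [NM]) fun y hy => Cfsg.Agent.H568.SC.Mon.sc_model hK y hy
  · refine key (by norm_num) (by norm_num [NM]) fun y hy => (Cfsg.Agent.H58.Mon71.norm71 hK ?_ ?_ hy).1
    · intro w hw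
      rw [Cfsg.Agent.H715.Mon.Exact.card23 h3 hw]
      norm_num
    · intro w hw
      rw [Cfsg.Agent.H626.LD.TwentyNine.card_cent hw]
      norm_num
  · obtain ⟨D, ⟨d, hd⟩, -, h2, -, hc⟩ := Cfsg.Agent.H568.SC.Mon.exists_transp
    obtain ⟨f⟩ := h
    obtain ⟨g⟩ := Cfsg.Agent.MonsterP.Equiv.equiv
    set e : ↥InstData.M.G ≃* S := (f.trans g).symm with he
    refine ⟨e d, by rw [MulEquiv.orderOf_eq, h2 d hd], ?_⟩
    rw [← Cfsg.Agent.LThreeB.card_centralizer_congr e d, hc d hd]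
    norm_num
  · obtain ⟨u, y, hu, hy, huy, -⟩ := Cfsg.Agent.H149.Sp.exists_m_of_iso h
    have h1 : orderOf (u * y) = 29 * 3 := by
      rw [(show Commute u y from huy).orderOf_mul_eq_mul_orderOf_of_coprime (by rw [hu, hy]; norm_num), hu, hy]
    exact ⟨u * y, by rw [h1]; norm_num, by rw [h1]; norm_num⟩

/-- **The row of the Monster.** -/
theorem row_m_of (hK : Cfsg.Agent.H995.CopEngine.AllKnown.{0}) (h3 : Cfsg.Agent.H715.Mon.Grp.SThree.{0})
    [Finite S] (hs : IsSimpleGroup S) (h : Spor.IsoM S) : Cfsg.Agent.H730.OZ.Row S :=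
  H604.OZ.row_of fun _ _ ho => no_one (facts hK h3 h) ho

end Cfsg.Agent.H733.OZ.Mon
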